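import Mathlib
import Cfsg.Prelude.Def_ChevStructure

/-!
# Project BTT (S2154, Borel–Tits for the seven Chevalley data) — definitions

Designer: helper8.  Paper proof and row list: `Cfsg/Agent/Lib/helper8/BTT/Skel.lean.txt`.

Idea (Kempf–Rousseau optimal filtration, made elementary).  A *level function* is a real linear
functional on the root lattice, written `L = Σ_i y_i ⟨ · , α_i^∨⟩` (`levE D`, a subspace of
`Fin D.nroots → ℝ`).  It grades the coordinate index set `D.Idx` (`lvl D L`: Cartan part in level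
`0`, `e_r` in level `L r`), and the grading defines, inside `GL D.Idx F`, the sets
`Fil ℓ c` (`g - 1` raises levels by at least `c`), `FilP ℓ` (`g - 1` raises levels strictly),
`Par ℓ` (`g` does not lower levels), `Lev ℓ ℓ'` (`g` carries the `ℓ`-grading to the `ℓ'`-grading).
-/

set_option autoImplicit false

namespace Cfsg.Agent.Lib.helper8.BTT

open Cfsg.Lie Cfsg.Lie.ChevalleyDatum

/-! ### generic filtrations of square matrices by a real level function -/

section generic
variable {ι : Type*} [DecidableEq ι] {F : Type*} [Field F]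

/-- `M - 1` raises levels by at least `c`. -/
def Fil (ℓ : ι → ℝ) (c : ℝ) (M : Matrix ι ι F) : Prop :=
  ∀ i j, (M - 1) i j ≠ 0 → ℓ j + c ≤ ℓ i

/-- `M - 1` raises levels strictly. -/
def FilP (ℓ : ι → ℝ) (M : Matrix ι ι F) : Prop :=
  ∀ i j, (M - 1) i j ≠ 0 → ℓ j < ℓ i

/-- `M` does not lower levels (entry `(i, j)` = coefficient of `e_i` in `M e_j`). -/
def Par (ℓ : ι → ℝ) (M : Matrix ι ι F) : Prop :=
  ∀ i j, M i j ≠ 0 → ℓ j ≤ ℓ i

/-- `M` maps the level-`c` part for `ℓ` into the level-`c` part for `ℓ'`. -/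
def Lev (ℓ ℓ' : ι → ℝ) (M : Matrix ι ι F) : Prop :=
  ∀ i j, M i j ≠ 0 → ℓ' i = ℓ j

end generic

/-- squared Euclidean norm -/
def nsq {n : ℕ} (L : Fin n → ℝ) : ℝ := ∑ r, L r ^ 2

/-! ### level functions of a Chevalley datum -/

/-- `y ↦ (r ↦ Σ_i y_i A_{p_i, r})`: the linear functionals on the root lattice, in the basis of the
Cartan functionals `r ↦ A_{p_i, r} = ⟨r, p_i^∨⟩`, evaluated on the roots. -/
def lamL (D : ChevalleyDatum) : (Fin D.rank → ℝ) →ₗ[ℝ] (Fin D.nroots → ℝ) where
  toFun y r := ∑ i : Fin D.rank, y i * ((D.cartan i r : ℤ) : ℝ)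
  map_add' y y' := by
    funext r
    simp only [Pi.add_apply, add_mul, Finset.sum_add_distrib]
  map_smul' a y := by
    funext r
    simp only [Pi.smul_apply, smul_eq_mul, RingHom.id_apply, Finset.mul_sum, mul_assoc]

/-- the space of level functions -/
def levE (D : ChevalleyDatum) : Submodule ℝ (Fin D.nroots → ℝ) := LinearMap.range (lamL D)

/-- value of a level function at a root index given as a natural number (`0` out of range) -/
def lv (D : ChevalleyDatum) (L : Fin D.nroots → ℝ) (r : ℕ) : ℝ :=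
  if h : r < D.nroots then L ⟨r, h⟩ else 0

/-- the grading of the coordinate index set: `h_{p_i}` in level `0`, `e_r` in level `L r` -/
def lvl (D : ChevalleyDatum) (L : Fin D.nroots → ℝ) : D.Idx → ℝ := Sum.elim (fun _ => 0) L

/-- dominant: non-negative on the fundamental roots -/
def Dom (D : ChevalleyDatum) (L : Fin D.nroots → ℝ) : Prop :=
  ∀ i < D.rank, 0 ≤ lv D L (D.simple i)

/-- the set of fundamental roots on which `L` vanishes -/
def zeroSet (D : ChevalleyDatum) (L : Fin D.nroots → ℝ) : Set ℕ :=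
  {i | i < D.rank ∧ lv D L (D.simple i) = 0}

/-- the level function `r ↦ L (w_{p_i} r)` -/
def reflL (D : ChevalleyDatum) (i : ℕ) (L : Fin D.nroots → ℝ) : Fin D.nroots → ℝ :=
  fun r => lv D L (D.reflectRoot i r)

end Cfsg.Agent.Lib.helper8.BTT
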